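import Mathlib.AlgebraicGeometry.ResidueField

/-!
# Sections over a local base agreeing on the closed point
-/

set_option autoImplicit false
universe u

open CategoryTheory AlgebraicGeometry

namespace Groth.Agent.ResPt22

/-- Two morphisms from the spectrum of a field with the same image point, both lifting the map given by
a surjection `R → k`, are equal. -/
theorem eq_of_apply_eq {R : CommRingCat.{u}} {k : Type u} [Field k] (ρ : R ⟶ CommRingCat.of k)
    (hρ : Function.Surjective ρ) {X : Scheme.{u}} (p : X ⟶ Spec R)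
    (a b : Spec (CommRingCat.of k) ⟶ X) (ha : a ≫ p = Spec.map ρ) (hb : b ≫ p = Spec.map ρ)
    (hab : a (IsLocalRing.closedPoint k) = b (IsLocalRing.closedPoint k)) : a = b := by
  obtain ⟨⟨z, φ⟩, rfl⟩ := (Scheme.SpecToEquivOfField k X).symm.surjective a
  obtain ⟨⟨z', φ'⟩, rfl⟩ := (Scheme.SpecToEquivOfField k X).symm.surjective b
  simp only [Scheme.SpecToEquivOfField_symm_apply, Scheme.Hom.comp_apply,
    Scheme.fromSpecResidueField_apply] at ha hb hab ⊢
  subst hab
  obtain ⟨ψ, hψ⟩ : ∃ ψ : R ⟶ X.residueField z, Spec.map ψ = X.fromSpecResidueField z ≫ p :=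
    Spec.map_surjective _
  have h : ψ ≫ φ = ρ := Spec.map_injective (by rw [Spec.map_comp, hψ, ← ha, Category.assoc])
  have h' : ψ ≫ φ' = ρ := Spec.map_injective (by rw [Spec.map_comp, hψ, ← hb, Category.assoc])
  have : φ' = φ := by
    ext u
    obtain ⟨r, hr⟩ := hρ (φ u)
    have hu : ψ r = u := φ.hom.injective (by
      rw [← hr, ← h]; rfl)
    rw [← hu]
    exact (ConcreteCategory.congr_hom h' r).trans (ConcreteCategory.congr_hom h r).symm
  rw [this]

/-- Two sections over a local ring with the same image of the closed point agree on the closed point. -/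
theorem residue_comp_eq {R : Type u} [CommRing R] [IsLocalRing R] {X : Scheme.{u}}
    (p : X ⟶ Spec (CommRingCat.of R)) (a b : Spec (CommRingCat.of R) ⟶ X)
    (ha : a ≫ p = 𝟙 _) (hb : b ≫ p = 𝟙 _)
    (hab : a (IsLocalRing.closedPoint R) = b (IsLocalRing.closedPoint R)) :
    Spec.map (CommRingCat.ofHom (IsLocalRing.residue R)) ≫ a =
      Spec.map (CommRingCat.ofHom (IsLocalRing.residue R)) ≫ b := by
  refine eq_of_apply_eq (CommRingCat.ofHom (IsLocalRing.residue R))
    (IsLocalRing.residue_surjective) p _ _ ?_ ?_ ?_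
  · rw [Category.assoc, ha, Category.comp_id]
  · rw [Category.assoc, hb, Category.comp_id]
  · have : (Spec.map (CommRingCat.ofHom (IsLocalRing.residue R))) (IsLocalRing.closedPoint _) =
        IsLocalRing.closedPoint R := IsLocalRing.comap_closedPoint (IsLocalRing.residue R)
    rw [Scheme.Hom.comp_apply, Scheme.Hom.comp_apply, this]
    exact hab

end Groth.Agent.ResPt22
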